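import Groth.Prelude.Def_Frob
import Groth.Agent.FlatBasics.UnivHomeo
import Mathlib.AlgebraicGeometry.Morphisms.Finite
import Mathlib.RingTheory.RingHom.PurelyInseparable

/-!
# The absolute and relative Frobenius are universal homeomorphisms
-/

universe u

open CategoryTheory CategoryTheory.Limits AlgebraicGeometry

namespace Groth.Agent.FrobUH

variable (X : Scheme.{u}) (p : ℕ) [Fact p.Prime] [FrobSch.IsCharP X p]

theorem stalk_natCast (x : X) : (p : X.presheaf.stalk x) = 0 := by
  have h := congrArg (X.presheaf.germ ⊤ x trivial).hom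
    (FrobSch.natCast_eq_zero_app X p ⊤)
  rw [map_natCast, map_zero] at h
  exact h

theorem residueField_natCast (x : X) : (p : X.residueField x) = 0 := by
  have h := congrArg (X.residue x).hom (stalk_natCast X p x)
  rw [map_natCast, map_zero] at h
  exact h

theorem stalkMap_frob (x : X) (t : X.presheaf.stalk x) :
    (FrobSch.frob X p).stalkMap x t = t ^ p := by
  obtain ⟨U, hxU, s, rfl⟩ := X.presheaf.exists_germ_eq (x := x) t
  refine ((FrobSch.frob X p).germ_stalkMap_apply U x hxU s).trans ?_
  change X.presheaf.germ U x hxU (s ^ p) = _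
  exact map_pow _ s p

/-- Every `p`-th power in `κ(x)` comes from the residue field map of the absolute Frobenius. -/
theorem exists_residueFieldMap_frob_eq (x : X) (a : X.residueField x) :
    ∃ b, (FrobSch.frob X p).residueFieldMap x b = a ^ p := by
  obtain ⟨t, rfl⟩ := X.residue_surjective x a
  refine ⟨X.residue x t, ?_⟩
  have h := ConcreteCategory.congr_hom (Scheme.residue_residueFieldMap (FrobSch.frob X p) x) t
  simp only [CommRingCat.comp_apply] at h
  refine h.trans ?_
  rw [stalkMap_frob]
  exact map_pow _ t p

omit [Fact p.Prime] in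
theorem isPurelyInseparable_of_pow_mem [Fact p.Prime] {F E : Type u} [Field F] [Field E]
    (φ : F →+* E) (hp : (p : E) = 0) (h : ∀ a : E, ∃ b, φ b = a ^ p) :
    φ.IsPurelyInseparable := by
  letI := φ.toAlgebra
  have hE : CharP E p := (CharP.charP_iff_prime_eq_zero Fact.out).2 hp
  have hF : CharP F p := (φ.charP_iff φ.injective p).2 hE
  change IsPurelyInseparable F E
  rw [isPurelyInseparable_iff_pow_mem F p]
  intro a
  obtain ⟨b, hb⟩ := h a
  exact ⟨1, b, by rw [pow_one]; exact hb⟩

theorem residueFieldMap_frob (x : X) :
    ((FrobSch.frob X p).residueFieldMap x).hom.IsPurelyInseparable :=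
  isPurelyInseparable_of_pow_mem p _ (residueField_natCast X p x)
    (exists_residueFieldMap_frob_eq X p x)

theorem isIntegralHom_frob : IsIntegralHom (FrobSch.frob X p) where
  isAffine_preimage U hU := by rw [FrobSch.frob_preimage]; exact hU
  isIntegral_app U hU := fun (s : Γ(X, U)) => by
    refine ⟨Polynomial.X ^ p - Polynomial.C (s : Γ(X, U)),
      Polynomial.monic_X_pow_sub_C _ (Fact.out : p.Prime).ne_zero, ?_⟩
    rw [Polynomial.eval₂_sub, Polynomial.eval₂_X_pow, Polynomial.eval₂_C, sub_eq_zero]
    exact (FrobSch.frob_app X p U s).symm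

theorem universallyInjective_frob : UniversallyInjective (FrobSch.frob X p) :=
  ((tfae_universallyInjective (FrobSch.frob X p)).out 0 2
      (a := UniversallyInjective (FrobSch.frob X p))
      (b := Function.Injective (FrobSch.frob X p) ∧
        ∀ x, ((FrobSch.frob X p).residueFieldMap x).hom.IsPurelyInseparable)).mpr
    ⟨fun a b h => by simpa using h, residueFieldMap_frob X p⟩

theorem surjective_frob : Surjective (FrobSch.frob X p) := ⟨fun x => ⟨x, rfl⟩⟩

theorem isUnivHomeo_frob : FlatMor.IsUnivHomeo (FrobSch.frob X p) :=
  have := isIntegralHom_frob X p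
  have := universallyInjective_frob X p
  have := surjective_frob X p
  Groth.Agent.FlatBasics.isUnivHomeo_of

section Rel

variable {X} {S : Scheme.{u}} [FrobSch.IsCharP S p] (f : X ⟶ S)

theorem fst_facts : IsIntegralHom (pullback.fst f (FrobSch.frob S p)) ∧
    UniversallyInjective (pullback.fst f (FrobSch.frob S p)) :=
  ⟨MorphismProperty.pullback_fst (P := @IsIntegralHom) _ _ (isIntegralHom_frob S p),
    MorphismProperty.pullback_fst (P := @UniversallyInjective) _ _ (universallyInjective_frob S p)⟩

theorem isIntegralHom_relFrob : IsIntegralHom (FrobSch.relFrob f p) := by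
  obtain ⟨h1, h2⟩ := fst_facts p f
  have : IsIntegralHom (FrobSch.relFrob f p ≫ pullback.fst f (FrobSch.frob S p)) := by
    rw [FrobSch.relFrob_fst]; exact isIntegralHom_frob X p
  exact IsIntegralHom.of_comp _ (pullback.fst f (FrobSch.frob S p))

theorem universallyInjective_relFrob : UniversallyInjective (FrobSch.relFrob f p) := by
  have : UniversallyInjective (FrobSch.relFrob f p ≫ pullback.fst f (FrobSch.frob S p)) := by
    rw [FrobSch.relFrob_fst]; exact universallyInjective_frob X p
  exact Groth.Agent.FlatBasics.universallyInjective_of_comp _ (pullback.fst f (FrobSch.frob S p))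

theorem surjective_relFrob : Surjective (FrobSch.relFrob f p) := by
  obtain ⟨h1, h2⟩ := fst_facts p f
  have : Surjective (FrobSch.relFrob f p ≫ pullback.fst f (FrobSch.frob S p)) := by
    rw [FrobSch.relFrob_fst]; exact surjective_frob X p
  exact Groth.Agent.FlatBasics.surjective_of_comp_injective _ _
    (pullback.fst f (FrobSch.frob S p)).injective

theorem isUnivHomeo_relFrob : FlatMor.IsUnivHomeo (FrobSch.relFrob f p) :=
  have := isIntegralHom_relFrob p f
  have := universallyInjective_relFrob p f
  have := surjective_relFrob p f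
  Groth.Agent.FlatBasics.isUnivHomeo_of

theorem residueFieldMap_relFrob (x : X) :
    ((FrobSch.relFrob f p).residueFieldMap x).hom.IsPurelyInseparable :=
  (((tfae_universallyInjective (FrobSch.relFrob f p)).out 0 2
      (a := UniversallyInjective (FrobSch.relFrob f p))
      (b := Function.Injective (FrobSch.relFrob f p) ∧
        ∀ x, ((FrobSch.relFrob f p).residueFieldMap x).hom.IsPurelyInseparable)).mp
    (universallyInjective_relFrob p f)).2 x

theorem isFinite_relFrob [LocallyOfFiniteType f] : IsFinite (FrobSch.relFrob f p) := by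
  have : LocallyOfFiniteType (FrobSch.relFrob f p ≫ pullback.snd f (FrobSch.frob S p)) := by
    rw [FrobSch.relFrob_snd]; infer_instance
  exact (IsFinite.iff_isIntegralHom_and_locallyOfFiniteType _).mpr
    ⟨isIntegralHom_relFrob p f, locallyOfFiniteType_of_comp _ (pullback.snd f (FrobSch.frob S p))⟩

end Rel

end Groth.Agent.FrobUH
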